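import Mathlib

/-!
Common definitions for S3174 / S3175 (2-groups of Rudvalis type).
-/

set_option autoImplicit false

namespace Cfsg.Agent.Lib.Helper82.Rud



/-- The hypotheses of S3174 on a finite `2`-group `T` and `W = C_T(Z_3(T))`. -/
structure Hyp (T : Type*) [Group T] [Finite T] (W : Subgroup T) : Prop where
  hT : IsPGroup 2 T
  ha : 2 ^ 14 ≤ Nat.card T
  hb : Nat.card ↥(Subgroup.upperCentralSeries T 4) = 16
  hW : W = Subgroup.centralizer ((Subgroup.upperCentralSeries T 3 : Subgroup T) : Set T)
  hc : Nat.card ↥(frattini ↥W) ≤ 8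
  hd : ∀ U : Subgroup ↥W, U.index ≤ 16 → frattini ↥W ≤ U

theorem frattini_map_conjNormal {T : Type*} [Group T] (W : Subgroup T) [W.Normal] (t : T) :
    (frattini ↥W).map ((MulAut.conjNormal t : MulAut ↥W) : ↥W →* ↥W) = frattini ↥W :=
  (Subgroup.characteristic_iff_map_eq.mp (frattini_characteristic)) _

/-- The conjugation action of `T` on `W / Φ(W)`. -/
noncomputable def act {T : Type*} [Group T] (W : Subgroup T) [W.Normal] :
    T →* MulAut (↥W ⧸ frattini ↥W) where
  toFun t := QuotientGroup.congr _ _ (MulAut.conjNormal t) (frattini_map_conjNormal W t)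
  map_one' := by
    ext x
    induction x using QuotientGroup.induction_on with
    | H w => simp
  map_mul' s t := by
    ext x
    induction x using QuotientGroup.induction_on with
    | H w => simp

theorem act_mk {T : Type*} [Group T] (W : Subgroup T) [W.Normal] (t : T) (w : ↥W) :
    act W t (w : ↥W ⧸ frattini ↥W) = ((MulAut.conjNormal t w : ↥W) : ↥W ⧸ frattini ↥W) := rfl

end Cfsg.Agent.Lib.Helper82.Rud
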