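import Mathlib
import Cfsg.Agent.Lib.Helper82.Rud.Defs
import Cfsg.Agent.Lib.Helper54.Dihedral

set_option autoImplicit false

namespace Cfsg.Agent.Lib.Helper82.Rud

open scoped commutatorElement

/-- A group of order 8 with two non-commuting involutions is dihedral. -/
theorem d8 {S : Type*} [Group S] [Finite S] (hS : Nat.card S = 8) (s s' : S) (hs : s * s = 1)
    (hs' : s' * s' = 1) (hne : s * s' ≠ s' * s) : Nonempty (S ≃* DihedralGroup 4) := by
  have hsi : s⁻¹ = s := inv_eq_of_mul_eq_one_left hs
  have hsi' : s'⁻¹ = s' := inv_eq_of_mul_eq_one_left hs'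
  have hainv : (s * s')⁻¹ = s' * s := by rw [mul_inv_rev, hsi, hsi']
  have ha2 : (s * s') ^ 2 ≠ 1 := by
    intro h
    apply hne
    rw [← hainv]
    exact (inv_eq_of_mul_eq_one_left (by rw [← sq]; exact h)).symm
  have hdvd : orderOf (s * s') ∣ 8 := by rw [← hS]; exact orderOf_dvd_natCard _
  have hord : orderOf (s * s') = 4 := by
    have hmem : orderOf (s * s') ∈ Nat.divisors 8 := Nat.mem_divisors.mpr ⟨hdvd, by norm_num⟩
    have hdiv : Nat.divisors 8 = {1, 2, 4, 8} := by decide
    rw [hdiv] at hmem
    simp only [Finset.mem_insert, Finset.mem_singleton] at hmem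
    rcases hmem with h | h | h | h
    · exfalso
      apply ha2
      rw [orderOf_eq_one_iff.mp h, one_pow]
    · exfalso
      apply ha2
      rw [← h]
      exact pow_orderOf_eq_one _
    · exact h
    · exfalso
      haveI : IsCyclic S := isCyclic_of_orderOf_eq_card (s * s') (by rw [h, hS])
      exact hne (IsCyclic.commGroup.mul_comm s s')
  refine Cfsg.Agent.Lib.Helper54.nonempty_mulEquiv_dihedralGroup 4 (s * s') s hord hs ?_ ?_
    (by rw [hS])
  · rw [hainv, hsi, ← mul_assoc, hs, one_mul]
  · intro hmem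
    obtain ⟨k, hk⟩ := Subgroup.mem_zpowers_iff.mp hmem
    have hcomm : s * (s * s') = (s * s') * s := by
      have h0 := ((Commute.refl (s * s')).zpow_left k).eq
      rwa [hk] at h0
    apply hne
    have h1 : s * (s * s') = s' := by rw [← mul_assoc, hs, one_mul]
    rw [h1] at hcomm
    calc s * s' = s * (s * s' * s) := by rw [← hcomm]
      _ = s' * s := by rw [← mul_assoc, ← mul_assoc, hs, one_mul]

end Cfsg.Agent.Lib.Helper82.Rud
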